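import Cfsg.Agent.Lib.Helper19.PresFi23
import Cfsg.Agent.Lib.Helper19.TC2P

/-! Generated file: certificates for the order of a presented group. -/

set_option autoImplicit false
set_option maxRecDepth 1000000

namespace Cfsg.Agent.Lib.Helper19.OrdFi23.U2

open Cfsg.Agent.Lib.Helper19.TCS (evn evn_rot evn_rev evn_pair AllS forall_of_allS lift_rels mk_eq_lift cox_swap shapeI prod_rep index_of_equiv orbit_ncard orbit_image ncard_interval fix_of_closure RC)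
open Cfsg.Agent.Lib.Helper19.TC2
open Cfsg.Spor Cfsg.Agent.Lib.Helper19.PresFi23

noncomputable section

def T0 : Tb := (.leaf 0x36e0dd829a86f411e62bc05f88ab2205c3fbc9d6136d2f506698d9497eb3dc867a91129f274ac69d89470aae0593eba7982eb21c67b6d669b8cb91875aef159f2940148326f856287c6d089a32832586c9ce9e153b2e9445249ac8b5f1ab43dac4b907790b000e200)
def J0 : Tb := (.leaf 0x200800e01401e01e02e02301402300e02302302300e00002300001400001401e01401e00801e01e00201e00200e00201e00800200801402300800e02300e02e02301402301e02302301e00001400e008002032)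
def L0 : Letter := (0, T0, J0)
def T1 : Tb := (.leaf 0x2ee0cd827a8634116421cc6778e701a6244b899695692c5660a8a961d253b4e828ceb423e141cc9c892122aa058beb97980eb1dc6736d569b6cb8d5752ef059c4c3fd182270d49fca468e909f1942605cd4c989b402a904d446aa0f5022cc259c5b887780afe0e1c0)
def J1 : Tb := (.leaf 0x300900f02a02901801802900002a00f00f02802801801802801800001800002900002900902902900302900300f00302900901800902a00301800f00901801800f00002a02902902801801800000f009003033)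
def L1 : Letter := (1, T1, J1)
def T2 : Tb := (.leaf 0x26e0bd821a87330ee826c85d88d7020da47b0857922e2ed665a8d349be83d4e7d9913122e44b408a9548ea5e3583eb5794b0b19c65b6d461b4cb4da73aeef51eeabb9683a10c4a248c213901f243a566cc8c9e9343227c5d10aac0f5b1ac42db03b689770afc0e180)
def J2 : Tb := (.leaf 0x400a02c01300002201c02201301300000002402402c01c02401c01301c01300001300000a02200000402200402c01302200a00401301300400a00000a02c01c02c01301300000002402201c01300000a004034)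
def L2 : Letter := (2, T2, J2)
def T3 : Tb := (.leaf 0x1ee09d82ba05b5106629c86588e301e5e43b89f595a8285a64a8db295ec3cce8198dd4a3a449469b89430aa5e57bea8817edb15a5f3ac471bab385874aede65ecabf1481a70b4a208c70d8f1f292e3a84d8a951d37328e4d3c8ab8f5e1aca2da04b985740efa0e140)
def J3 : Tb := (.leaf 0x502f00d00001f01f01901f01701700d00d00002500d00002501900001901701f01701f02f00d01f00500d00d00d00501f00000502f01700502f00d02f00d00000d00000001f01f02501f01901700d000005035)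
def L3 : Letter := (3, T3, J3)
def T4 : Tb := (.leaf 0xee0ed41fb06b40fe628c86388df01f5e46b8936946c2e545bacd149ce63c4e72a10f1a364434a9a81450a66259b8b8797aead1f66aed269b2cb7d86636f24de8ac05079ad094a2a74094911916465e6c8cf9d17422a8c4d388ab0f5d1ac82da84b7077a06f616100)
def J4 : Tb := (.leaf 0x3000700001502002001a02001501501201202600701201a02600701501a00702001500700702002000002003001203000700703000700003000700000700001a00001501502002002602001a015012007000036)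
def L4 : Letter := (4, T4, J4)
def T5 : Tb := (.leaf 0x3ec08dc25a86740f6627c86188db01ede45b897694ec2d56639cd749c68315480910b29fe64a429889271a9dd573eb76d4d032595b3cd75994e3954742ed869f48b99882a70e3df6ac61087a5263a5c6cd0c9c97412a8a4d348aa8f5c1ac62da44b807750b0206081)
def J5 : Tb := (.leaf 0x100001001602102101b02101601601001002702701001b00101b01600101602100102100c02100100100100100000102100000100001600100001000001001b01001601602102102702101b01601000c001000)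
def L5 : Letter := (5, T5, J5)
def T6 : Tb := (.leaf 0x16e0ad823a85f412622cbc4b98eae16e43bc095694ac2cd661a8d549c283bce7e99092a32448c69e7d410ab1c4fc4bb6984cab60682cbc7986eb8187626d16deaabf5476af0a4a228c5d08f9f253a5a6cccc9c173f2a963d485a6136012a645846b787760af80e0c0)
def J6 : Tb := (.leaf 0x600b01102b01d01d00001d00000001101103103101102d03102d02b02d02b01d02b01d00001d01d00001d00000000601d00000600b00000600b01100b01102d01102b02b01d01d00001d00000001100b006037)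
def L6 : Letter := (6, T6, J6)
def tC : Tb := (.leaf 0x0)
def tJC : Tb := (.leaf 0x0)
def tPP : Tb := (.leaf 0x9769358f48b39b19af86f9ae8ad8ac8eb8e88288268e58658248638a28618a099f89d99c91c99a9999599969568d695499391395191089094f90e8cd90c8cb84b8ca8898889879858059848448838c2901940800)
def W0 : List Letter := [L5, L5]
def W1 : List Letter := [L0, L5, L0, L5]
def W2 : List Letter := [L1, L5, L1, L5]
def W3 : List Letter := [L2, L5, L2, L5]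
def W4 : List Letter := [L3, L5, L3, L5]
def W5 : List Letter := [L6, L5, L6, L5]
def W6 : List Letter := [L4, L4]
def W7 : List Letter := [L0, L4, L0, L4]
def W8 : List Letter := [L1, L4, L1, L4]
def W9 : List Letter := [L2, L4, L2, L4]
def W10 : List Letter := [L6, L4, L6, L4]
def W11 : List Letter := [L5, L4, L5, L4, L5, L4]
def W12 : List Letter := [L3, L3]
def W13 : List Letter := [L0, L3, L0, L3]
def W14 : List Letter := [L1, L3, L1, L3]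
def W15 : List Letter := [L5, L3, L5, L3]
def W16 : List Letter := [L6, L3, L6, L3]
def W17 : List Letter := [L4, L3, L4, L3, L4, L3]
def W18 : List Letter := [L2, L2]
def W19 : List Letter := [L0, L2, L0, L2]
def W20 : List Letter := [L4, L2, L4, L2]
def W21 : List Letter := [L5, L2, L5, L2]
def W22 : List Letter := [L3, L2, L3, L2, L3, L2]
def W23 : List Letter := [L1, L1]
def W24 : List Letter := [L3, L1, L3, L1]
def W25 : List Letter := [L4, L1, L4, L1]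
def W26 : List Letter := [L5, L1, L5, L1]
def W27 : List Letter := [L2, L1, L2, L1, L2, L1]
def W28 : List Letter := [L6, L6]
def W29 : List Letter := [L0, L6, L0, L6]
def W30 : List Letter := [L3, L6, L3, L6]
def W31 : List Letter := [L4, L6, L4, L6]
def W32 : List Letter := [L5, L6, L5, L6]
def W33 : List Letter := [L2, L6, L2, L6, L2, L6]
def W34 : List Letter := [L0, L0]
def W35 : List Letter := [L2, L0, L2, L0]
def W36 : List Letter := [L3, L0, L3, L0]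
def W37 : List Letter := [L4, L0, L4, L0]
def W38 : List Letter := [L5, L0, L5, L0]
def W39 : List Letter := [L1, L0, L1, L0, L1, L0]
def W40 : List Letter := [L1, L6, L1, L6]
def W41 : List Letter := [L1, L2, L1, L2, L1, L2]
def W42 : List Letter := [L6, L2, L6, L2, L6, L2]
def W43 : List Letter := [L2, L3, L2, L3, L2, L3]
def W44 : List Letter := [L6, L1, L6, L1]
def W45 : List Letter := [L0, L1, L0, L1, L0, L1]
def W46 : List Letter := [L3, L4, L3, L4, L3, L4]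
def W47 : List Letter := [L4, L5, L4, L5, L4, L5]
def W48 : List Letter := [L6, L0, L6, L0]
def wtree : Tr := (.node (.node (.node (.node (.node (.node (.leaf W0) (.leaf W32)) (.node (.leaf W16) (.leaf W48))) (.node (.node (.leaf W8) (.leaf W40)) (.leaf W24))) (.node (.node (.node (.leaf W4) (.leaf W36)) (.leaf W20)) (.node (.node (.leaf W12) (.leaf W44)) (.leaf W28)))) (.node (.node (.node (.node (.leaf W2) (.leaf W34)) (.leaf W18)) (.node (.node (.leaf W10) (.leaf W42)) (.leaf W26))) (.node (.node (.node (.leaf W6) (.leaf W38)) (.leaf W22)) (.node (.node (.leaf W14) (.leaf W46)) (.leaf W30))))) (.node (.node (.node (.node (.node (.leaf W1) (.leaf W33)) (.leaf W17)) (.node (.node (.leaf W9) (.leaf W41)) (.leaf W25))) (.node (.node (.node (.leaf W5) (.leaf W37)) (.leaf W21)) (.node (.node (.leaf W13) (.leaf W45)) (.leaf W29)))) (.node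 (.node (.node (.node (.leaf W3) (.leaf W35)) (.leaf W19)) (.node (.node (.leaf W11) (.leaf W43)) (.leaf W27))) (.node (.node (.node (.leaf W7) (.leaf W39)) (.leaf W23)) (.node (.node (.leaf W15) (.leaf W47)) (.leaf W31))))))
def wsubs : List (List Letter × List Letter) := [([], [L0]), ([], [L1]), ([], [L2]), ([], [L3]), ([], [L4]), ([], [L6])]
def cert : Par := { w := 6, mw := 63, w5 := 11, fw := 15, mf := 32767, jw := 12, mj := 4095, k := 6, km := 63, C := tC, JC := tJC, PP := tPP, D := 1, M := 56, R := 49, S := 56, tree := wtree, subs := wsubs, LS := [L0, L1, L2, L3, L4, L5, L6] }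

end

theorem al0 : al cert 0 = true := by decide +kernel

theorem cnt : cntA (al cert) 56 0 = 56 := by decide +kernel

theorem row_ok0 : loop (row cert) 0 56 = true := by decide +kernel

theorem hsel : ∀ k < cert.LS.length, (sel cert.LS k).1 = k := by decide

theorem lf0 : (∀ p ∈ W0, p ∈ cert.LS) ∧ ev (fun k => el (jm [1, 2, 3, 4, 5, 6, 8] k)) W0 = 1 :=
  leaf_okJ cert el [1, 2, 3, 4, 5, 6, 8] hsel [5, 5] [6, 6] W0 rfl (by decide) rfl (evn_pair el el_sq 6)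

theorem lf1 : (∀ p ∈ W1, p ∈ cert.LS) ∧ ev (fun k => el (jm [1, 2, 3, 4, 5, 6, 8] k)) W1 = 1 :=
  leaf_okJ cert el [1, 2, 3, 4, 5, 6, 8] hsel [0, 5, 0, 5] [1, 6, 1, 6] W1 rfl (by decide) rfl (cox_one 1 6)

theorem lf2 : (∀ p ∈ W2, p ∈ cert.LS) ∧ ev (fun k => el (jm [1, 2, 3, 4, 5, 6, 8] k)) W2 = 1 :=
  leaf_okJ cert el [1, 2, 3, 4, 5, 6, 8] hsel [1, 5, 1, 5] [2, 6, 2, 6] W2 rfl (by decide) rfl (cox_one 2 6)

theorem lf3 : (∀ p ∈ W3, p ∈ cert.LS) ∧ ev (fun k => el (jm [1, 2, 3, 4, 5, 6, 8] k)) W3 = 1 :=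
  leaf_okJ cert el [1, 2, 3, 4, 5, 6, 8] hsel [2, 5, 2, 5] [3, 6, 3, 6] W3 rfl (by decide) rfl (cox_one 3 6)

theorem lf4 : (∀ p ∈ W4, p ∈ cert.LS) ∧ ev (fun k => el (jm [1, 2, 3, 4, 5, 6, 8] k)) W4 = 1 :=
  leaf_okJ cert el [1, 2, 3, 4, 5, 6, 8] hsel [3, 5, 3, 5] [4, 6, 4, 6] W4 rfl (by decide) rfl (cox_one 4 6)

theorem lf5 : (∀ p ∈ W5, p ∈ cert.LS) ∧ ev (fun k => el (jm [1, 2, 3, 4, 5, 6, 8] k)) W5 = 1 :=
  leaf_okJ cert el [1, 2, 3, 4, 5, 6, 8] hsel [6, 5, 6, 5] [8, 6, 8, 6] W5 rfl (by decide) rfl (cox_one 8 6)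

theorem lf6 : (∀ p ∈ W6, p ∈ cert.LS) ∧ ev (fun k => el (jm [1, 2, 3, 4, 5, 6, 8] k)) W6 = 1 :=
  leaf_okJ cert el [1, 2, 3, 4, 5, 6, 8] hsel [4, 4] [5, 5] W6 rfl (by decide) rfl (evn_pair el el_sq 5)

theorem lf7 : (∀ p ∈ W7, p ∈ cert.LS) ∧ ev (fun k => el (jm [1, 2, 3, 4, 5, 6, 8] k)) W7 = 1 :=
  leaf_okJ cert el [1, 2, 3, 4, 5, 6, 8] hsel [0, 4, 0, 4] [1, 5, 1, 5] W7 rfl (by decide) rfl (cox_one 1 5)

theorem lf8 : (∀ p ∈ W8, p ∈ cert.LS) ∧ ev (fun k => el (jm [1, 2, 3, 4, 5, 6, 8] k)) W8 = 1 :=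
  leaf_okJ cert el [1, 2, 3, 4, 5, 6, 8] hsel [1, 4, 1, 4] [2, 5, 2, 5] W8 rfl (by decide) rfl (cox_one 2 5)

theorem lf9 : (∀ p ∈ W9, p ∈ cert.LS) ∧ ev (fun k => el (jm [1, 2, 3, 4, 5, 6, 8] k)) W9 = 1 :=
  leaf_okJ cert el [1, 2, 3, 4, 5, 6, 8] hsel [2, 4, 2, 4] [3, 5, 3, 5] W9 rfl (by decide) rfl (cox_one 3 5)

theorem lf10 : (∀ p ∈ W10, p ∈ cert.LS) ∧ ev (fun k => el (jm [1, 2, 3, 4, 5, 6, 8] k)) W10 = 1 :=
  leaf_okJ cert el [1, 2, 3, 4, 5, 6, 8] hsel [6, 4, 6, 4] [8, 5, 8, 5] W10 rfl (by decide) rfl (cox_one 8 5)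

theorem lf11 : (∀ p ∈ W11, p ∈ cert.LS) ∧ ev (fun k => el (jm [1, 2, 3, 4, 5, 6, 8] k)) W11 = 1 :=
  leaf_okJ cert el [1, 2, 3, 4, 5, 6, 8] hsel [5, 4, 5, 4, 5, 4] [6, 5, 6, 5, 6, 5] W11 rfl (by decide) rfl (cox_one 6 5)

theorem lf12 : (∀ p ∈ W12, p ∈ cert.LS) ∧ ev (fun k => el (jm [1, 2, 3, 4, 5, 6, 8] k)) W12 = 1 :=
  leaf_okJ cert el [1, 2, 3, 4, 5, 6, 8] hsel [3, 3] [4, 4] W12 rfl (by decide) rfl (evn_pair el el_sq 4)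

theorem lf13 : (∀ p ∈ W13, p ∈ cert.LS) ∧ ev (fun k => el (jm [1, 2, 3, 4, 5, 6, 8] k)) W13 = 1 :=
  leaf_okJ cert el [1, 2, 3, 4, 5, 6, 8] hsel [0, 3, 0, 3] [1, 4, 1, 4] W13 rfl (by decide) rfl (cox_one 1 4)

theorem lf14 : (∀ p ∈ W14, p ∈ cert.LS) ∧ ev (fun k => el (jm [1, 2, 3, 4, 5, 6, 8] k)) W14 = 1 :=
  leaf_okJ cert el [1, 2, 3, 4, 5, 6, 8] hsel [1, 3, 1, 3] [2, 4, 2, 4] W14 rfl (by decide) rfl (cox_one 2 4)

theorem lf15 : (∀ p ∈ W15, p ∈ cert.LS) ∧ ev (fun k => el (jm [1, 2, 3, 4, 5, 6, 8] k)) W15 = 1 :=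
  leaf_okJ cert el [1, 2, 3, 4, 5, 6, 8] hsel [5, 3, 5, 3] [6, 4, 6, 4] W15 rfl (by decide) rfl (cox_one 6 4)

theorem lf16 : (∀ p ∈ W16, p ∈ cert.LS) ∧ ev (fun k => el (jm [1, 2, 3, 4, 5, 6, 8] k)) W16 = 1 :=
  leaf_okJ cert el [1, 2, 3, 4, 5, 6, 8] hsel [6, 3, 6, 3] [8, 4, 8, 4] W16 rfl (by decide) rfl (cox_one 8 4)

theorem lf17 : (∀ p ∈ W17, p ∈ cert.LS) ∧ ev (fun k => el (jm [1, 2, 3, 4, 5, 6, 8] k)) W17 = 1 :=
  leaf_okJ cert el [1, 2, 3, 4, 5, 6, 8] hsel [4, 3, 4, 3, 4, 3] [5, 4, 5, 4, 5, 4] W17 rfl (by decide) rfl (cox_one 5 4)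

theorem lf18 : (∀ p ∈ W18, p ∈ cert.LS) ∧ ev (fun k => el (jm [1, 2, 3, 4, 5, 6, 8] k)) W18 = 1 :=
  leaf_okJ cert el [1, 2, 3, 4, 5, 6, 8] hsel [2, 2] [3, 3] W18 rfl (by decide) rfl (evn_pair el el_sq 3)

theorem lf19 : (∀ p ∈ W19, p ∈ cert.LS) ∧ ev (fun k => el (jm [1, 2, 3, 4, 5, 6, 8] k)) W19 = 1 :=
  leaf_okJ cert el [1, 2, 3, 4, 5, 6, 8] hsel [0, 2, 0, 2] [1, 3, 1, 3] W19 rfl (by decide) rfl (cox_one 1 3)

theorem lf20 : (∀ p ∈ W20, p ∈ cert.LS) ∧ ev (fun k => el (jm [1, 2, 3, 4, 5, 6, 8] k)) W20 = 1 :=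
  leaf_okJ cert el [1, 2, 3, 4, 5, 6, 8] hsel [4, 2, 4, 2] [5, 3, 5, 3] W20 rfl (by decide) rfl (cox_one 5 3)

theorem lf21 : (∀ p ∈ W21, p ∈ cert.LS) ∧ ev (fun k => el (jm [1, 2, 3, 4, 5, 6, 8] k)) W21 = 1 :=
  leaf_okJ cert el [1, 2, 3, 4, 5, 6, 8] hsel [5, 2, 5, 2] [6, 3, 6, 3] W21 rfl (by decide) rfl (cox_one 6 3)

theorem lf22 : (∀ p ∈ W22, p ∈ cert.LS) ∧ ev (fun k => el (jm [1, 2, 3, 4, 5, 6, 8] k)) W22 = 1 :=
  leaf_okJ cert el [1, 2, 3, 4, 5, 6, 8] hsel [3, 2, 3, 2, 3, 2] [4, 3, 4, 3, 4, 3] W22 rfl (by decide) rfl (cox_one 4 3)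

theorem lf23 : (∀ p ∈ W23, p ∈ cert.LS) ∧ ev (fun k => el (jm [1, 2, 3, 4, 5, 6, 8] k)) W23 = 1 :=
  leaf_okJ cert el [1, 2, 3, 4, 5, 6, 8] hsel [1, 1] [2, 2] W23 rfl (by decide) rfl (evn_pair el el_sq 2)

theorem lf24 : (∀ p ∈ W24, p ∈ cert.LS) ∧ ev (fun k => el (jm [1, 2, 3, 4, 5, 6, 8] k)) W24 = 1 :=
  leaf_okJ cert el [1, 2, 3, 4, 5, 6, 8] hsel [3, 1, 3, 1] [4, 2, 4, 2] W24 rfl (by decide) rfl (cox_one 4 2)

theorem lf25 : (∀ p ∈ W25, p ∈ cert.LS) ∧ ev (fun k => el (jm [1, 2, 3, 4, 5, 6, 8] k)) W25 = 1 :=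
  leaf_okJ cert el [1, 2, 3, 4, 5, 6, 8] hsel [4, 1, 4, 1] [5, 2, 5, 2] W25 rfl (by decide) rfl (cox_one 5 2)

theorem lf26 : (∀ p ∈ W26, p ∈ cert.LS) ∧ ev (fun k => el (jm [1, 2, 3, 4, 5, 6, 8] k)) W26 = 1 :=
  leaf_okJ cert el [1, 2, 3, 4, 5, 6, 8] hsel [5, 1, 5, 1] [6, 2, 6, 2] W26 rfl (by decide) rfl (cox_one 6 2)

theorem lf27 : (∀ p ∈ W27, p ∈ cert.LS) ∧ ev (fun k => el (jm [1, 2, 3, 4, 5, 6, 8] k)) W27 = 1 :=
  leaf_okJ cert el [1, 2, 3, 4, 5, 6, 8] hsel [2, 1, 2, 1, 2, 1] [3, 2, 3, 2, 3, 2] W27 rfl (by decide) rfl (cox_one 3 2)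

theorem lf28 : (∀ p ∈ W28, p ∈ cert.LS) ∧ ev (fun k => el (jm [1, 2, 3, 4, 5, 6, 8] k)) W28 = 1 :=
  leaf_okJ cert el [1, 2, 3, 4, 5, 6, 8] hsel [6, 6] [8, 8] W28 rfl (by decide) rfl (evn_pair el el_sq 8)

theorem lf29 : (∀ p ∈ W29, p ∈ cert.LS) ∧ ev (fun k => el (jm [1, 2, 3, 4, 5, 6, 8] k)) W29 = 1 :=
  leaf_okJ cert el [1, 2, 3, 4, 5, 6, 8] hsel [0, 6, 0, 6] [1, 8, 1, 8] W29 rfl (by decide) rfl (cox_one 1 8)

theorem lf30 : (∀ p ∈ W30, p ∈ cert.LS) ∧ ev (fun k => el (jm [1, 2, 3, 4, 5, 6, 8] k)) W30 = 1 :=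
  leaf_okJ cert el [1, 2, 3, 4, 5, 6, 8] hsel [3, 6, 3, 6] [4, 8, 4, 8] W30 rfl (by decide) rfl (cox_one 4 8)

theorem lf31 : (∀ p ∈ W31, p ∈ cert.LS) ∧ ev (fun k => el (jm [1, 2, 3, 4, 5, 6, 8] k)) W31 = 1 :=
  leaf_okJ cert el [1, 2, 3, 4, 5, 6, 8] hsel [4, 6, 4, 6] [5, 8, 5, 8] W31 rfl (by decide) rfl (cox_one 5 8)

theorem lf32 : (∀ p ∈ W32, p ∈ cert.LS) ∧ ev (fun k => el (jm [1, 2, 3, 4, 5, 6, 8] k)) W32 = 1 :=
  leaf_okJ cert el [1, 2, 3, 4, 5, 6, 8] hsel [5, 6, 5, 6] [6, 8, 6, 8] W32 rfl (by decide) rfl (cox_one 6 8)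

theorem lf33 : (∀ p ∈ W33, p ∈ cert.LS) ∧ ev (fun k => el (jm [1, 2, 3, 4, 5, 6, 8] k)) W33 = 1 :=
  leaf_okJ cert el [1, 2, 3, 4, 5, 6, 8] hsel [2, 6, 2, 6, 2, 6] [3, 8, 3, 8, 3, 8] W33 rfl (by decide) rfl (cox_one 3 8)

theorem lf34 : (∀ p ∈ W34, p ∈ cert.LS) ∧ ev (fun k => el (jm [1, 2, 3, 4, 5, 6, 8] k)) W34 = 1 :=
  leaf_okJ cert el [1, 2, 3, 4, 5, 6, 8] hsel [0, 0] [1, 1] W34 rfl (by decide) rfl (evn_pair el el_sq 1)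

theorem lf35 : (∀ p ∈ W35, p ∈ cert.LS) ∧ ev (fun k => el (jm [1, 2, 3, 4, 5, 6, 8] k)) W35 = 1 :=
  leaf_okJ cert el [1, 2, 3, 4, 5, 6, 8] hsel [2, 0, 2, 0] [3, 1, 3, 1] W35 rfl (by decide) rfl (cox_one 3 1)

theorem lf36 : (∀ p ∈ W36, p ∈ cert.LS) ∧ ev (fun k => el (jm [1, 2, 3, 4, 5, 6, 8] k)) W36 = 1 :=
  leaf_okJ cert el [1, 2, 3, 4, 5, 6, 8] hsel [3, 0, 3, 0] [4, 1, 4, 1] W36 rfl (by decide) rfl (cox_one 4 1)

theorem lf37 : (∀ p ∈ W37, p ∈ cert.LS) ∧ ev (fun k => el (jm [1, 2, 3, 4, 5, 6, 8] k)) W37 = 1 :=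
  leaf_okJ cert el [1, 2, 3, 4, 5, 6, 8] hsel [4, 0, 4, 0] [5, 1, 5, 1] W37 rfl (by decide) rfl (cox_one 5 1)

theorem lf38 : (∀ p ∈ W38, p ∈ cert.LS) ∧ ev (fun k => el (jm [1, 2, 3, 4, 5, 6, 8] k)) W38 = 1 :=
  leaf_okJ cert el [1, 2, 3, 4, 5, 6, 8] hsel [5, 0, 5, 0] [6, 1, 6, 1] W38 rfl (by decide) rfl (cox_one 6 1)

theorem lf39 : (∀ p ∈ W39, p ∈ cert.LS) ∧ ev (fun k => el (jm [1, 2, 3, 4, 5, 6, 8] k)) W39 = 1 :=
  leaf_okJ cert el [1, 2, 3, 4, 5, 6, 8] hsel [1, 0, 1, 0, 1, 0] [2, 1, 2, 1, 2, 1] W39 rfl (by decide) rfl (cox_one 2 1)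

theorem lf40 : (∀ p ∈ W40, p ∈ cert.LS) ∧ ev (fun k => el (jm [1, 2, 3, 4, 5, 6, 8] k)) W40 = 1 :=
  leaf_okJ cert el [1, 2, 3, 4, 5, 6, 8] hsel [1, 6, 1, 6] [2, 8, 2, 8] W40 rfl (by decide) rfl (cox_one 2 8)

theorem lf41 : (∀ p ∈ W41, p ∈ cert.LS) ∧ ev (fun k => el (jm [1, 2, 3, 4, 5, 6, 8] k)) W41 = 1 :=
  leaf_okJ cert el [1, 2, 3, 4, 5, 6, 8] hsel [1, 2, 1, 2, 1, 2] [2, 3, 2, 3, 2, 3] W41 rfl (by decide) rfl (cox_one 2 3)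

theorem lf42 : (∀ p ∈ W42, p ∈ cert.LS) ∧ ev (fun k => el (jm [1, 2, 3, 4, 5, 6, 8] k)) W42 = 1 :=
  leaf_okJ cert el [1, 2, 3, 4, 5, 6, 8] hsel [6, 2, 6, 2, 6, 2] [8, 3, 8, 3, 8, 3] W42 rfl (by decide) rfl (cox_one 8 3)

theorem lf43 : (∀ p ∈ W43, p ∈ cert.LS) ∧ ev (fun k => el (jm [1, 2, 3, 4, 5, 6, 8] k)) W43 = 1 :=
  leaf_okJ cert el [1, 2, 3, 4, 5, 6, 8] hsel [2, 3, 2, 3, 2, 3] [3, 4, 3, 4, 3, 4] W43 rfl (by decide) rfl (cox_one 3 4)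

theorem lf44 : (∀ p ∈ W44, p ∈ cert.LS) ∧ ev (fun k => el (jm [1, 2, 3, 4, 5, 6, 8] k)) W44 = 1 :=
  leaf_okJ cert el [1, 2, 3, 4, 5, 6, 8] hsel [6, 1, 6, 1] [8, 2, 8, 2] W44 rfl (by decide) rfl (cox_one 8 2)

theorem lf45 : (∀ p ∈ W45, p ∈ cert.LS) ∧ ev (fun k => el (jm [1, 2, 3, 4, 5, 6, 8] k)) W45 = 1 :=
  leaf_okJ cert el [1, 2, 3, 4, 5, 6, 8] hsel [0, 1, 0, 1, 0, 1] [1, 2, 1, 2, 1, 2] W45 rfl (by decide) rfl (cox_one 1 2)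

theorem lf46 : (∀ p ∈ W46, p ∈ cert.LS) ∧ ev (fun k => el (jm [1, 2, 3, 4, 5, 6, 8] k)) W46 = 1 :=
  leaf_okJ cert el [1, 2, 3, 4, 5, 6, 8] hsel [3, 4, 3, 4, 3, 4] [4, 5, 4, 5, 4, 5] W46 rfl (by decide) rfl (cox_one 4 5)

theorem lf47 : (∀ p ∈ W47, p ∈ cert.LS) ∧ ev (fun k => el (jm [1, 2, 3, 4, 5, 6, 8] k)) W47 = 1 :=
  leaf_okJ cert el [1, 2, 3, 4, 5, 6, 8] hsel [4, 5, 4, 5, 4, 5] [5, 6, 5, 6, 5, 6] W47 rfl (by decide) rfl (cox_one 5 6)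

theorem lf48 : (∀ p ∈ W48, p ∈ cert.LS) ∧ ev (fun k => el (jm [1, 2, 3, 4, 5, 6, 8] k)) W48 = 1 :=
  leaf_okJ cert el [1, 2, 3, 4, 5, 6, 8] hsel [6, 0, 6, 0] [8, 1, 8, 1] W48 rfl (by decide) rfl (cox_one 8 1)

theorem tree_ok : cert.tree.All (fun W => (∀ p ∈ W, p ∈ cert.LS) ∧ ev (fun k => el (jm [1, 2, 3, 4, 5, 6, 8] k)) W = 1) :=
  ⟨⟨⟨⟨⟨⟨lf0, lf32⟩, ⟨lf16, lf48⟩⟩, ⟨⟨lf8, lf40⟩, lf24⟩⟩, ⟨⟨⟨lf4, lf36⟩, lf20⟩, ⟨⟨lf12, lf44⟩, lf28⟩⟩⟩, ⟨⟨⟨⟨lf2, lf34⟩, lf18⟩, ⟨⟨lf10, lf42⟩, lf26⟩⟩, ⟨⟨⟨lf6, lf38⟩, lf22⟩, ⟨⟨lf14, lf46⟩, lf30⟩⟩⟩⟩, ⟨⟨⟨⟨⟨lf1, lf33⟩, lf17⟩, ⟨⟨lf9, lf41⟩, lf25⟩⟩, ⟨⟨⟨lf5, lf37⟩, lf21⟩, ⟨⟨lf13, lf45⟩, lf29⟩⟩⟩, ⟨⟨⟨⟨lf3, lf35⟩, lf19⟩, ⟨⟨lf11, lf43⟩, lf27⟩⟩, ⟨⟨⟨lf7, lf39⟩, lf23⟩, ⟨⟨lf15, lf47⟩, lf31⟩⟩⟩⟩⟩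

theorem subs_ok : AllS (fun XZ : List Letter × List Letter => (∀ p ∈ XZ.1, p ∈ cert.LS) ∧ (∀ p ∈ XZ.2, p ∈ cert.LS) ∧
    ev (fun k => el (jm [1, 2, 3, 4, 5, 6, 8] k)) XZ.1 * ev (fun k => el (jm [1, 2, 3, 4, 5, 6, 8] k)) XZ.2 ∈ KK el [1, 2, 3, 4, 5, 8]) cert.subs :=
  ⟨sub_ok cert _ (KK el [1, 2, 3, 4, 5, 8]) hsel [] [0] _ _ rfl rfl (by decide) (sub_memJ el [1, 2, 3, 4, 5, 6, 8] [1, 2, 3, 4, 5, 8] 0 (by decide)), sub_ok cert _ (KK el [1, 2, 3, 4, 5, 8]) hsel [] [1] _ _ rfl rfl (by decide) (sub_memJ el [1, 2, 3, 4, 5, 6, 8] [1, 2, 3, 4, 5, 8] 1 (by decide)), sub_ok cert _ (KK el [1, 2, 3, 4, 5, 8]) hsel [] [2] _ _ rfl rfl (by decide) (sub_memJ el [1, 2, 3, 4, 5, 6, 8] [1, 2, 3, 4, 5, 8] 2 (by decide)), sub_ok cert _ (KK el [1, 2, 3, 4, 5, 8]) hsel [] [3] _ _ rfl rfl (by decide) (sub_memJ el [1, 2, 3, 4, 5, 6, 8] [1, 2, 3, 4, 5, 8] 3 (by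 decide)), sub_ok cert _ (KK el [1, 2, 3, 4, 5, 8]) hsel [] [4] _ _ rfl rfl (by decide) (sub_memJ el [1, 2, 3, 4, 5, 6, 8] [1, 2, 3, 4, 5, 8] 4 (by decide)), sub_ok cert _ (KK el [1, 2, 3, 4, 5, 8]) hsel [] [6] _ _ rfl rfl (by decide) (sub_memJ el [1, 2, 3, 4, 5, 6, 8] [1, 2, 3, 4, 5, 8] 6 (by decide)), trivial⟩

theorem hyp : Hyp cert (KK el [1, 2, 3, 4, 5, 8]) (fun k => el (jm [1, 2, 3, 4, 5, 6, 8] k)) := ⟨tree_ok, forall_of_allS subs_ok⟩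

theorem hrow : ∀ a < cert.M, row cert a = true := by
  intro a ha
  have ha' : a < 56 := ha
  exact loop_spec row_ok0 a (by omega) (by omega)

theorem ub (hf : Finite (KK el [1, 2, 3, 4, 5, 8])) : Finite (KK el [1, 2, 3, 4, 5, 6, 8]) ∧ Nat.card (KK el [1, 2, 3, 4, 5, 6, 8]) ≤ 56 * Nat.card (KK el [1, 2, 3, 4, 5, 8]) :=
  ub_stepJ el [1, 2, 3, 4, 5, 6, 8] [1, 2, 3, 4, 5, 8] el_sq hyp al0 hrow rfl cnt hf

end Cfsg.Agent.Lib.Helper19.OrdFi23.U2
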