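import Cfsg.Agent.Lib.Helper19.PresFi23
import Cfsg.Agent.Lib.Helper19.TC2P

/-! Generated file: certificates for the order of a presented group. -/

set_option autoImplicit false
set_option maxRecDepth 1000000

namespace Cfsg.Agent.Lib.Helper19.OrdFi23.U3

open Cfsg.Agent.Lib.Helper19.TCS (evn evn_rot evn_rev evn_pair AllS forall_of_allS lift_rels mk_eq_lift cox_swap shapeI prod_rep index_of_equiv orbit_ncard orbit_image ncard_interval fix_of_closure RC)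
open Cfsg.Agent.Lib.Helper19.TC2
open Cfsg.Spor Cfsg.Agent.Lib.Helper19.PresFi23

noncomputable section

def T0 : Tb := (.leaf 0x2e82f223818b8fd08ea3d6319184cf607914b628ad59a98f52733a9b12e68793bf9a14b1448f1c90a7013a1)
def J0 : Tb := (.leaf 0x640800c028050050010180040800100200408000000030060140280640a01001802800800)
def L0 : Letter := (0, T0, J0)
def T1 : Tb := (.leaf 0x2682b21f817b0b5c9a657427a9ac8ee286d467a6b90a0baa624af318d6e48783bf1a10b1248d1cb065c5440)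
def J1 : Tb := (.leaf 0x680880e02a018030150000380881104608c0300600c0000001502a0680a81101c01800025)
def L1 : Letter := (1, T1, J1)
def T2 : Tb := (.leaf 0x1e823225713c0dd88aa5143289bc0ce67124a7a83951ab2c5f5b421b4ed2a6e4be9a08b104901488e6c3420)
def J2 : Tb := (.leaf 0x6c0900b00005c1001701602c000000040080902004002c0580000006c0b81201600001026)
def L2 : Letter := (2, T2, J2)
def T3 : Tb := (.leaf 0xe83301b915b8ed896a5542e99a48f9e88c3f8a7b95d48b0615ac35ad2e28772be19d8f1638c24a8a683400)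
def J3 : Tb := (.leaf 0x700780003a0740381d03c0780780f00000c0780000e0000f01d03a0700780f00001c01827)
def L3 : Letter := (3, T3, J3)
def T4 : Tb := (.leaf 0x3641f421814b8e5892a5342f99b48e62810497243d4dab8b5b63325954e076f440120cb0268e1ca0a6433e0)
def J4 : Tb := (.leaf 0x600000d02c0580401601a03411022008060110080300340c0160300600b00001a02002028)
def L4 : Letter := (4, T4, J4)
def T5 : Tb := (.leaf 0x1682721d819a904c6ae59221b16d0ea2830477a73955ab4c605b229a92e867a23aa2186f67872c98a6033c0)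
def J5 : Tb := (.leaf 0x901081f02604c000130000001082100a0141080901207c0f8130260000980000002402829)
def L5 : Letter := (5, T5, J5)
def tC : Tb := (.leaf 0x0)
def tJC : Tb := (.leaf 0x0)
def tPP : Tb := (.leaf 0x12663c45796b2ce19cb28a314237c6c81902e3542a85312223ca694921251c6388508600400)
def W0 : List Letter := [L0, L0]
def W1 : List Letter := [L2, L0, L2, L0]
def W2 : List Letter := [L3, L0, L3, L0]
def W3 : List Letter := [L4, L0, L4, L0]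
def W4 : List Letter := [L5, L0, L5, L0]
def W5 : List Letter := [L1, L1]
def W6 : List Letter := [L3, L1, L3, L1]
def W7 : List Letter := [L4, L1, L4, L1]
def W8 : List Letter := [L5, L1, L5, L1]
def W9 : List Letter := [L0, L1, L0, L1, L0, L1]
def W10 : List Letter := [L2, L2]
def W11 : List Letter := [L0, L2, L0, L2]
def W12 : List Letter := [L4, L2, L4, L2]
def W13 : List Letter := [L1, L2, L1, L2, L1, L2]
def W14 : List Letter := [L3, L3]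
def W15 : List Letter := [L0, L3, L0, L3]
def W16 : List Letter := [L1, L3, L1, L3]
def W17 : List Letter := [L2, L3, L2, L3, L2, L3]
def W18 : List Letter := [L5, L5]
def W19 : List Letter := [L0, L5, L0, L5]
def W20 : List Letter := [L1, L5, L1, L5]
def W21 : List Letter := [L4, L5, L4, L5]
def W22 : List Letter := [L2, L5, L2, L5, L2, L5]
def W23 : List Letter := [L4, L4]
def W24 : List Letter := [L0, L4, L0, L4]
def W25 : List Letter := [L1, L4, L1, L4]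
def W26 : List Letter := [L2, L4, L2, L4]
def W27 : List Letter := [L3, L4, L3, L4, L3, L4]
def W28 : List Letter := [L3, L5, L3, L5]
def W29 : List Letter := [L3, L2, L3, L2, L3, L2]
def W30 : List Letter := [L5, L2, L5, L2, L5, L2]
def W31 : List Letter := [L2, L1, L2, L1, L2, L1]
def W32 : List Letter := [L5, L3, L5, L3]
def W33 : List Letter := [L4, L3, L4, L3, L4, L3]
def W34 : List Letter := [L1, L0, L1, L0, L1, L0]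
def W35 : List Letter := [L5, L4, L5, L4]
def wtree : Tr := (.node (.node (.node (.node (.node (.node (.leaf W0) (.leaf W32)) (.leaf W16)) (.node (.leaf W8) (.leaf W24))) (.node (.node (.leaf W4) (.leaf W20)) (.node (.leaf W12) (.leaf W28)))) (.node (.node (.node (.node (.leaf W2) (.leaf W34)) (.leaf W18)) (.node (.leaf W10) (.leaf W26))) (.node (.node (.leaf W6) (.leaf W22)) (.node (.leaf W14) (.leaf W30))))) (.node (.node (.node (.node (.node (.leaf W1) (.leaf W33)) (.leaf W17)) (.node (.leaf W9) (.leaf W25))) (.node (.node (.leaf W5) (.leaf W21)) (.node (.leaf W13) (.leaf W29)))) (.node (.node (.node (.node (.leaf W3) (.leaf W35)) (.leaf W19)) (.node (.leaf W11) (.leaf W27))) (.node (.node (.leaf W7) (.leaf W23)) (.node (.leaf W15) (.leaf W31))))))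
def wsubs : List (List Letter × List Letter) := [([], [L1]), ([], [L2]), ([], [L3]), ([], [L4]), ([], [L5])]
def cert : Par := { w := 5, mw := 31, w5 := 10, fw := 13, mf := 8191, jw := 11, mj := 2047, k := 6, km := 63, C := tC, JC := tJC, PP := tPP, D := 1, M := 27, R := 36, S := 42, tree := wtree, subs := wsubs, LS := [L0, L1, L2, L3, L4, L5] }

end

theorem al0 : al cert 0 = true := by decide +kernel

theorem cnt : cntA (al cert) 27 0 = 27 := by decide +kernel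

theorem row_ok0 : loop (row cert) 0 27 = true := by decide +kernel

theorem hsel : ∀ k < cert.LS.length, (sel cert.LS k).1 = k := by decide

theorem lf0 : (∀ p ∈ W0, p ∈ cert.LS) ∧ ev (fun k => el (jm [1, 2, 3, 4, 5, 8] k)) W0 = 1 :=
  leaf_okJ cert el [1, 2, 3, 4, 5, 8] hsel [0, 0] [1, 1] W0 rfl (by decide) rfl (evn_pair el el_sq 1)

theorem lf1 : (∀ p ∈ W1, p ∈ cert.LS) ∧ ev (fun k => el (jm [1, 2, 3, 4, 5, 8] k)) W1 = 1 :=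
  leaf_okJ cert el [1, 2, 3, 4, 5, 8] hsel [2, 0, 2, 0] [3, 1, 3, 1] W1 rfl (by decide) rfl (cox_one 3 1)

theorem lf2 : (∀ p ∈ W2, p ∈ cert.LS) ∧ ev (fun k => el (jm [1, 2, 3, 4, 5, 8] k)) W2 = 1 :=
  leaf_okJ cert el [1, 2, 3, 4, 5, 8] hsel [3, 0, 3, 0] [4, 1, 4, 1] W2 rfl (by decide) rfl (cox_one 4 1)

theorem lf3 : (∀ p ∈ W3, p ∈ cert.LS) ∧ ev (fun k => el (jm [1, 2, 3, 4, 5, 8] k)) W3 = 1 :=
  leaf_okJ cert el [1, 2, 3, 4, 5, 8] hsel [4, 0, 4, 0] [5, 1, 5, 1] W3 rfl (by decide) rfl (cox_one 5 1)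

theorem lf4 : (∀ p ∈ W4, p ∈ cert.LS) ∧ ev (fun k => el (jm [1, 2, 3, 4, 5, 8] k)) W4 = 1 :=
  leaf_okJ cert el [1, 2, 3, 4, 5, 8] hsel [5, 0, 5, 0] [8, 1, 8, 1] W4 rfl (by decide) rfl (cox_one 8 1)

theorem lf5 : (∀ p ∈ W5, p ∈ cert.LS) ∧ ev (fun k => el (jm [1, 2, 3, 4, 5, 8] k)) W5 = 1 :=
  leaf_okJ cert el [1, 2, 3, 4, 5, 8] hsel [1, 1] [2, 2] W5 rfl (by decide) rfl (evn_pair el el_sq 2)

theorem lf6 : (∀ p ∈ W6, p ∈ cert.LS) ∧ ev (fun k => el (jm [1, 2, 3, 4, 5, 8] k)) W6 = 1 :=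
  leaf_okJ cert el [1, 2, 3, 4, 5, 8] hsel [3, 1, 3, 1] [4, 2, 4, 2] W6 rfl (by decide) rfl (cox_one 4 2)

theorem lf7 : (∀ p ∈ W7, p ∈ cert.LS) ∧ ev (fun k => el (jm [1, 2, 3, 4, 5, 8] k)) W7 = 1 :=
  leaf_okJ cert el [1, 2, 3, 4, 5, 8] hsel [4, 1, 4, 1] [5, 2, 5, 2] W7 rfl (by decide) rfl (cox_one 5 2)

theorem lf8 : (∀ p ∈ W8, p ∈ cert.LS) ∧ ev (fun k => el (jm [1, 2, 3, 4, 5, 8] k)) W8 = 1 :=
  leaf_okJ cert el [1, 2, 3, 4, 5, 8] hsel [5, 1, 5, 1] [8, 2, 8, 2] W8 rfl (by decide) rfl (cox_one 8 2)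

theorem lf9 : (∀ p ∈ W9, p ∈ cert.LS) ∧ ev (fun k => el (jm [1, 2, 3, 4, 5, 8] k)) W9 = 1 :=
  leaf_okJ cert el [1, 2, 3, 4, 5, 8] hsel [0, 1, 0, 1, 0, 1] [1, 2, 1, 2, 1, 2] W9 rfl (by decide) rfl (cox_one 1 2)

theorem lf10 : (∀ p ∈ W10, p ∈ cert.LS) ∧ ev (fun k => el (jm [1, 2, 3, 4, 5, 8] k)) W10 = 1 :=
  leaf_okJ cert el [1, 2, 3, 4, 5, 8] hsel [2, 2] [3, 3] W10 rfl (by decide) rfl (evn_pair el el_sq 3)

theorem lf11 : (∀ p ∈ W11, p ∈ cert.LS) ∧ ev (fun k => el (jm [1, 2, 3, 4, 5, 8] k)) W11 = 1 :=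
  leaf_okJ cert el [1, 2, 3, 4, 5, 8] hsel [0, 2, 0, 2] [1, 3, 1, 3] W11 rfl (by decide) rfl (cox_one 1 3)

theorem lf12 : (∀ p ∈ W12, p ∈ cert.LS) ∧ ev (fun k => el (jm [1, 2, 3, 4, 5, 8] k)) W12 = 1 :=
  leaf_okJ cert el [1, 2, 3, 4, 5, 8] hsel [4, 2, 4, 2] [5, 3, 5, 3] W12 rfl (by decide) rfl (cox_one 5 3)

theorem lf13 : (∀ p ∈ W13, p ∈ cert.LS) ∧ ev (fun k => el (jm [1, 2, 3, 4, 5, 8] k)) W13 = 1 :=
  leaf_okJ cert el [1, 2, 3, 4, 5, 8] hsel [1, 2, 1, 2, 1, 2] [2, 3, 2, 3, 2, 3] W13 rfl (by decide) rfl (cox_one 2 3)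

theorem lf14 : (∀ p ∈ W14, p ∈ cert.LS) ∧ ev (fun k => el (jm [1, 2, 3, 4, 5, 8] k)) W14 = 1 :=
  leaf_okJ cert el [1, 2, 3, 4, 5, 8] hsel [3, 3] [4, 4] W14 rfl (by decide) rfl (evn_pair el el_sq 4)

theorem lf15 : (∀ p ∈ W15, p ∈ cert.LS) ∧ ev (fun k => el (jm [1, 2, 3, 4, 5, 8] k)) W15 = 1 :=
  leaf_okJ cert el [1, 2, 3, 4, 5, 8] hsel [0, 3, 0, 3] [1, 4, 1, 4] W15 rfl (by decide) rfl (cox_one 1 4)

theorem lf16 : (∀ p ∈ W16, p ∈ cert.LS) ∧ ev (fun k => el (jm [1, 2, 3, 4, 5, 8] k)) W16 = 1 :=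
  leaf_okJ cert el [1, 2, 3, 4, 5, 8] hsel [1, 3, 1, 3] [2, 4, 2, 4] W16 rfl (by decide) rfl (cox_one 2 4)

theorem lf17 : (∀ p ∈ W17, p ∈ cert.LS) ∧ ev (fun k => el (jm [1, 2, 3, 4, 5, 8] k)) W17 = 1 :=
  leaf_okJ cert el [1, 2, 3, 4, 5, 8] hsel [2, 3, 2, 3, 2, 3] [3, 4, 3, 4, 3, 4] W17 rfl (by decide) rfl (cox_one 3 4)

theorem lf18 : (∀ p ∈ W18, p ∈ cert.LS) ∧ ev (fun k => el (jm [1, 2, 3, 4, 5, 8] k)) W18 = 1 :=
  leaf_okJ cert el [1, 2, 3, 4, 5, 8] hsel [5, 5] [8, 8] W18 rfl (by decide) rfl (evn_pair el el_sq 8)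

theorem lf19 : (∀ p ∈ W19, p ∈ cert.LS) ∧ ev (fun k => el (jm [1, 2, 3, 4, 5, 8] k)) W19 = 1 :=
  leaf_okJ cert el [1, 2, 3, 4, 5, 8] hsel [0, 5, 0, 5] [1, 8, 1, 8] W19 rfl (by decide) rfl (cox_one 1 8)

theorem lf20 : (∀ p ∈ W20, p ∈ cert.LS) ∧ ev (fun k => el (jm [1, 2, 3, 4, 5, 8] k)) W20 = 1 :=
  leaf_okJ cert el [1, 2, 3, 4, 5, 8] hsel [1, 5, 1, 5] [2, 8, 2, 8] W20 rfl (by decide) rfl (cox_one 2 8)

theorem lf21 : (∀ p ∈ W21, p ∈ cert.LS) ∧ ev (fun k => el (jm [1, 2, 3, 4, 5, 8] k)) W21 = 1 :=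
  leaf_okJ cert el [1, 2, 3, 4, 5, 8] hsel [4, 5, 4, 5] [5, 8, 5, 8] W21 rfl (by decide) rfl (cox_one 5 8)

theorem lf22 : (∀ p ∈ W22, p ∈ cert.LS) ∧ ev (fun k => el (jm [1, 2, 3, 4, 5, 8] k)) W22 = 1 :=
  leaf_okJ cert el [1, 2, 3, 4, 5, 8] hsel [2, 5, 2, 5, 2, 5] [3, 8, 3, 8, 3, 8] W22 rfl (by decide) rfl (cox_one 3 8)

theorem lf23 : (∀ p ∈ W23, p ∈ cert.LS) ∧ ev (fun k => el (jm [1, 2, 3, 4, 5, 8] k)) W23 = 1 :=
  leaf_okJ cert el [1, 2, 3, 4, 5, 8] hsel [4, 4] [5, 5] W23 rfl (by decide) rfl (evn_pair el el_sq 5)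

theorem lf24 : (∀ p ∈ W24, p ∈ cert.LS) ∧ ev (fun k => el (jm [1, 2, 3, 4, 5, 8] k)) W24 = 1 :=
  leaf_okJ cert el [1, 2, 3, 4, 5, 8] hsel [0, 4, 0, 4] [1, 5, 1, 5] W24 rfl (by decide) rfl (cox_one 1 5)

theorem lf25 : (∀ p ∈ W25, p ∈ cert.LS) ∧ ev (fun k => el (jm [1, 2, 3, 4, 5, 8] k)) W25 = 1 :=
  leaf_okJ cert el [1, 2, 3, 4, 5, 8] hsel [1, 4, 1, 4] [2, 5, 2, 5] W25 rfl (by decide) rfl (cox_one 2 5)

theorem lf26 : (∀ p ∈ W26, p ∈ cert.LS) ∧ ev (fun k => el (jm [1, 2, 3, 4, 5, 8] k)) W26 = 1 :=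
  leaf_okJ cert el [1, 2, 3, 4, 5, 8] hsel [2, 4, 2, 4] [3, 5, 3, 5] W26 rfl (by decide) rfl (cox_one 3 5)

theorem lf27 : (∀ p ∈ W27, p ∈ cert.LS) ∧ ev (fun k => el (jm [1, 2, 3, 4, 5, 8] k)) W27 = 1 :=
  leaf_okJ cert el [1, 2, 3, 4, 5, 8] hsel [3, 4, 3, 4, 3, 4] [4, 5, 4, 5, 4, 5] W27 rfl (by decide) rfl (cox_one 4 5)

theorem lf28 : (∀ p ∈ W28, p ∈ cert.LS) ∧ ev (fun k => el (jm [1, 2, 3, 4, 5, 8] k)) W28 = 1 :=
  leaf_okJ cert el [1, 2, 3, 4, 5, 8] hsel [3, 5, 3, 5] [4, 8, 4, 8] W28 rfl (by decide) rfl (cox_one 4 8)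

theorem lf29 : (∀ p ∈ W29, p ∈ cert.LS) ∧ ev (fun k => el (jm [1, 2, 3, 4, 5, 8] k)) W29 = 1 :=
  leaf_okJ cert el [1, 2, 3, 4, 5, 8] hsel [3, 2, 3, 2, 3, 2] [4, 3, 4, 3, 4, 3] W29 rfl (by decide) rfl (cox_one 4 3)

theorem lf30 : (∀ p ∈ W30, p ∈ cert.LS) ∧ ev (fun k => el (jm [1, 2, 3, 4, 5, 8] k)) W30 = 1 :=
  leaf_okJ cert el [1, 2, 3, 4, 5, 8] hsel [5, 2, 5, 2, 5, 2] [8, 3, 8, 3, 8, 3] W30 rfl (by decide) rfl (cox_one 8 3)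

theorem lf31 : (∀ p ∈ W31, p ∈ cert.LS) ∧ ev (fun k => el (jm [1, 2, 3, 4, 5, 8] k)) W31 = 1 :=
  leaf_okJ cert el [1, 2, 3, 4, 5, 8] hsel [2, 1, 2, 1, 2, 1] [3, 2, 3, 2, 3, 2] W31 rfl (by decide) rfl (cox_one 3 2)

theorem lf32 : (∀ p ∈ W32, p ∈ cert.LS) ∧ ev (fun k => el (jm [1, 2, 3, 4, 5, 8] k)) W32 = 1 :=
  leaf_okJ cert el [1, 2, 3, 4, 5, 8] hsel [5, 3, 5, 3] [8, 4, 8, 4] W32 rfl (by decide) rfl (cox_one 8 4)

theorem lf33 : (∀ p ∈ W33, p ∈ cert.LS) ∧ ev (fun k => el (jm [1, 2, 3, 4, 5, 8] k)) W33 = 1 :=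
  leaf_okJ cert el [1, 2, 3, 4, 5, 8] hsel [4, 3, 4, 3, 4, 3] [5, 4, 5, 4, 5, 4] W33 rfl (by decide) rfl (cox_one 5 4)

theorem lf34 : (∀ p ∈ W34, p ∈ cert.LS) ∧ ev (fun k => el (jm [1, 2, 3, 4, 5, 8] k)) W34 = 1 :=
  leaf_okJ cert el [1, 2, 3, 4, 5, 8] hsel [1, 0, 1, 0, 1, 0] [2, 1, 2, 1, 2, 1] W34 rfl (by decide) rfl (cox_one 2 1)

theorem lf35 : (∀ p ∈ W35, p ∈ cert.LS) ∧ ev (fun k => el (jm [1, 2, 3, 4, 5, 8] k)) W35 = 1 :=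
  leaf_okJ cert el [1, 2, 3, 4, 5, 8] hsel [5, 4, 5, 4] [8, 5, 8, 5] W35 rfl (by decide) rfl (cox_one 8 5)

theorem tree_ok : cert.tree.All (fun W => (∀ p ∈ W, p ∈ cert.LS) ∧ ev (fun k => el (jm [1, 2, 3, 4, 5, 8] k)) W = 1) :=
  ⟨⟨⟨⟨⟨⟨lf0, lf32⟩, lf16⟩, ⟨lf8, lf24⟩⟩, ⟨⟨lf4, lf20⟩, ⟨lf12, lf28⟩⟩⟩, ⟨⟨⟨⟨lf2, lf34⟩, lf18⟩, ⟨lf10, lf26⟩⟩, ⟨⟨lf6, lf22⟩, ⟨lf14, lf30⟩⟩⟩⟩, ⟨⟨⟨⟨⟨lf1, lf33⟩, lf17⟩, ⟨lf9, lf25⟩⟩, ⟨⟨lf5, lf21⟩, ⟨lf13, lf29⟩⟩⟩, ⟨⟨⟨⟨lf3, lf35⟩, lf19⟩, ⟨lf11, lf27⟩⟩, ⟨⟨lf7, lf23⟩, ⟨lf15, lf31⟩⟩⟩⟩⟩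

theorem subs_ok : AllS (fun XZ : List Letter × List Letter => (∀ p ∈ XZ.1, p ∈ cert.LS) ∧ (∀ p ∈ XZ.2, p ∈ cert.LS) ∧
    ev (fun k => el (jm [1, 2, 3, 4, 5, 8] k)) XZ.1 * ev (fun k => el (jm [1, 2, 3, 4, 5, 8] k)) XZ.2 ∈ KK el [2, 3, 4, 5, 8]) cert.subs :=
  ⟨sub_ok cert _ (KK el [2, 3, 4, 5, 8]) hsel [] [1] _ _ rfl rfl (by decide) (sub_memJ el [1, 2, 3, 4, 5, 8] [2, 3, 4, 5, 8] 1 (by decide)), sub_ok cert _ (KK el [2, 3, 4, 5, 8]) hsel [] [2] _ _ rfl rfl (by decide) (sub_memJ el [1, 2, 3, 4, 5, 8] [2, 3, 4, 5, 8] 2 (by decide)), sub_ok cert _ (KK el [2, 3, 4, 5, 8]) hsel [] [3] _ _ rfl rfl (by decide) (sub_memJ el [1, 2, 3, 4, 5, 8] [2, 3, 4, 5, 8] 3 (by decide)), sub_ok cert _ (KK el [2, 3, 4, 5, 8]) hsel [] [4] _ _ rfl rfl (by decide) (sub_memJ el [1, 2, 3, 4, 5, 8] [2, 3, 4, 5, 8] 4 (by decide)), sub_ok cert _ (KK el [2, 3,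 4, 5, 8]) hsel [] [5] _ _ rfl rfl (by decide) (sub_memJ el [1, 2, 3, 4, 5, 8] [2, 3, 4, 5, 8] 5 (by decide)), trivial⟩

theorem hyp : Hyp cert (KK el [2, 3, 4, 5, 8]) (fun k => el (jm [1, 2, 3, 4, 5, 8] k)) := ⟨tree_ok, forall_of_allS subs_ok⟩

theorem hrow : ∀ a < cert.M, row cert a = true := by
  intro a ha
  have ha' : a < 27 := ha
  exact loop_spec row_ok0 a (by omega) (by omega)

theorem ub (hf : Finite (KK el [2, 3, 4, 5, 8])) : Finite (KK el [1, 2, 3, 4, 5, 8]) ∧ Nat.card (KK el [1, 2, 3, 4, 5, 8]) ≤ 27 * Nat.card (KK el [2, 3, 4, 5, 8]) :=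
  ub_stepJ el [1, 2, 3, 4, 5, 8] [2, 3, 4, 5, 8] el_sq hyp al0 hrow rfl cnt hf

end Cfsg.Agent.Lib.Helper19.OrdFi23.U3
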