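import Cfsg.Agent.Lib.Helper19.PresFi23
import Cfsg.Agent.Lib.Helper19.TC2P

/-! Generated file: certificates for the order of a presented group. -/

set_option autoImplicit false
set_option maxRecDepth 1000000

namespace Cfsg.Agent.Lib.Helper19.OrdFi23.U4

open Cfsg.Agent.Lib.Helper19.TCS (evn evn_rot evn_rev evn_pair AllS forall_of_allS lift_rels mk_eq_lift cox_swap shapeI prod_rep index_of_equiv orbit_ncard orbit_image ncard_interval fix_of_closure RC)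
open Cfsg.Agent.Lib.Helper19.TC2
open Cfsg.Spor Cfsg.Agent.Lib.Helper19.PresFi23

noncomputable section

def T0 : Tb := (.leaf 0xae0cf1ed2ac34b3ea4895465c75287046e5842863941a00)
def J0 : Tb := (.leaf 0x100000100201e0080b016028020078080100000101a)
def L0 : Letter := (0, T0, J0)
def T1 : Tb := (.leaf 0x2f14d16e24c32b3aa4684495e56666077647e38c18e29e0)
def J1 : Tb := (.leaf 0x160140001701c05c0880500a0440000e0160140001b)
def L1 : Letter := (1, T1, J1)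
def T2 : Tb := (.leaf 0x8f10e1cc1ad3693ca38b4e85a76267237a27457c49219c0)
def J2 : Tb := (.leaf 0x320540180c01800c0001302a04c0600c0000000181c)
def L2 : Letter := (2, T2, J2)
def T3 : Tb := (.leaf 0x6f12e18d28a30b26c4a75654c96845886a68238a29019a0)
def J3 : Tb := (.leaf 0x120180200403004008010000040000000120180201d)
def L3 : Letter := (3, T3, J3)
def T4 : Tb := (.leaf 0x4f0ee20b2c922d4072ec50842a6466c5784803882960981)
def J4 : Tb := (.leaf 0x1401c00801000004000120000480680d01401c00800)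
def L4 : Letter := (4, T4, J4)
def tC : Tb := (.leaf 0x0)
def tJC : Tb := (.leaf 0x0)
def tPP : Tb := (.leaf 0x81d0b645c8989321e33c6584b19221c4280508640400)
def W0 : List Letter := [L4, L4]
def W1 : List Letter := [L0, L4, L0, L4]
def W2 : List Letter := [L2, L4, L2, L4]
def W3 : List Letter := [L3, L4, L3, L4]
def W4 : List Letter := [L1, L1]
def W5 : List Letter := [L3, L1, L3, L1]
def W6 : List Letter := [L4, L1, L4, L1, L4, L1]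
def W7 : List Letter := [L0, L0]
def W8 : List Letter := [L3, L0, L3, L0]
def W9 : List Letter := [L4, L0, L4, L0]
def W10 : List Letter := [L1, L0, L1, L0, L1, L0]
def W11 : List Letter := [L2, L2]
def W12 : List Letter := [L4, L2, L4, L2]
def W13 : List Letter := [L1, L2, L1, L2, L1, L2]
def W14 : List Letter := [L0, L2, L0, L2]
def W15 : List Letter := [L3, L3]
def W16 : List Letter := [L1, L3, L1, L3]
def W17 : List Letter := [L4, L3, L4, L3]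
def W18 : List Letter := [L2, L3, L2, L3, L2, L3]
def W19 : List Letter := [L0, L1, L0, L1, L0, L1]
def W20 : List Letter := [L2, L1, L2, L1, L2, L1]
def W21 : List Letter := [L0, L3, L0, L3]
def W22 : List Letter := [L1, L4, L1, L4, L1, L4]
def W23 : List Letter := [L3, L2, L3, L2, L3, L2]
def W24 : List Letter := [L2, L0, L2, L0]
def wtree : Tr := (.node (.node (.node (.node (.node (.leaf W0) (.leaf W16)) (.node (.leaf W8) (.leaf W24))) (.node (.node (.leaf W4) (.leaf W20)) (.leaf W12))) (.node (.node (.node (.leaf W2) (.leaf W18)) (.leaf W10)) (.node (.node (.leaf W6) (.leaf W22)) (.leaf W14)))) (.node (.node (.node (.node (.leaf W1) (.leaf W17)) (.leaf W9)) (.node (.node (.leaf W5) (.leaf W21)) (.leaf W13))) (.node (.node (.node (.leaf W3) (.leaf W19)) (.leaf W11)) (.node (.node (.leaf W7) (.leaf W23)) (.leaf W15)))))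
def wsubs : List (List Letter × List Letter) := [([], [L0]), ([], [L1]), ([], [L2]), ([], [L3])]
def cert : Par := { w := 5, mw := 31, w5 := 10, fw := 12, mf := 4095, jw := 11, mj := 2047, k := 6, km := 63, C := tC, JC := tJC, PP := tPP, D := 1, M := 16, R := 25, S := 30, tree := wtree, subs := wsubs, LS := [L0, L1, L2, L3, L4] }

end

theorem al0 : al cert 0 = true := by decide +kernel

theorem cnt : cntA (al cert) 16 0 = 16 := by decide +kernel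

theorem row_ok0 : loop (row cert) 0 16 = true := by decide +kernel

theorem hsel : ∀ k < cert.LS.length, (sel cert.LS k).1 = k := by decide

theorem lf0 : (∀ p ∈ W0, p ∈ cert.LS) ∧ ev (fun k => el (jm [2, 3, 4, 5, 8] k)) W0 = 1 :=
  leaf_okJ cert el [2, 3, 4, 5, 8] hsel [4, 4] [8, 8] W0 rfl (by decide) rfl (evn_pair el el_sq 8)

theorem lf1 : (∀ p ∈ W1, p ∈ cert.LS) ∧ ev (fun k => el (jm [2, 3, 4, 5, 8] k)) W1 = 1 :=
  leaf_okJ cert el [2, 3, 4, 5, 8] hsel [0, 4, 0, 4] [2, 8, 2, 8] W1 rfl (by decide) rfl (cox_one 2 8)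

theorem lf2 : (∀ p ∈ W2, p ∈ cert.LS) ∧ ev (fun k => el (jm [2, 3, 4, 5, 8] k)) W2 = 1 :=
  leaf_okJ cert el [2, 3, 4, 5, 8] hsel [2, 4, 2, 4] [4, 8, 4, 8] W2 rfl (by decide) rfl (cox_one 4 8)

theorem lf3 : (∀ p ∈ W3, p ∈ cert.LS) ∧ ev (fun k => el (jm [2, 3, 4, 5, 8] k)) W3 = 1 :=
  leaf_okJ cert el [2, 3, 4, 5, 8] hsel [3, 4, 3, 4] [5, 8, 5, 8] W3 rfl (by decide) rfl (cox_one 5 8)

theorem lf4 : (∀ p ∈ W4, p ∈ cert.LS) ∧ ev (fun k => el (jm [2, 3, 4, 5, 8] k)) W4 = 1 :=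
  leaf_okJ cert el [2, 3, 4, 5, 8] hsel [1, 1] [3, 3] W4 rfl (by decide) rfl (evn_pair el el_sq 3)

theorem lf5 : (∀ p ∈ W5, p ∈ cert.LS) ∧ ev (fun k => el (jm [2, 3, 4, 5, 8] k)) W5 = 1 :=
  leaf_okJ cert el [2, 3, 4, 5, 8] hsel [3, 1, 3, 1] [5, 3, 5, 3] W5 rfl (by decide) rfl (cox_one 5 3)

theorem lf6 : (∀ p ∈ W6, p ∈ cert.LS) ∧ ev (fun k => el (jm [2, 3, 4, 5, 8] k)) W6 = 1 :=
  leaf_okJ cert el [2, 3, 4, 5, 8] hsel [4, 1, 4, 1, 4, 1] [8, 3, 8, 3, 8, 3] W6 rfl (by decide) rfl (cox_one 8 3)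

theorem lf7 : (∀ p ∈ W7, p ∈ cert.LS) ∧ ev (fun k => el (jm [2, 3, 4, 5, 8] k)) W7 = 1 :=
  leaf_okJ cert el [2, 3, 4, 5, 8] hsel [0, 0] [2, 2] W7 rfl (by decide) rfl (evn_pair el el_sq 2)

theorem lf8 : (∀ p ∈ W8, p ∈ cert.LS) ∧ ev (fun k => el (jm [2, 3, 4, 5, 8] k)) W8 = 1 :=
  leaf_okJ cert el [2, 3, 4, 5, 8] hsel [3, 0, 3, 0] [5, 2, 5, 2] W8 rfl (by decide) rfl (cox_one 5 2)

theorem lf9 : (∀ p ∈ W9, p ∈ cert.LS) ∧ ev (fun k => el (jm [2, 3, 4, 5, 8] k)) W9 = 1 :=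
  leaf_okJ cert el [2, 3, 4, 5, 8] hsel [4, 0, 4, 0] [8, 2, 8, 2] W9 rfl (by decide) rfl (cox_one 8 2)

theorem lf10 : (∀ p ∈ W10, p ∈ cert.LS) ∧ ev (fun k => el (jm [2, 3, 4, 5, 8] k)) W10 = 1 :=
  leaf_okJ cert el [2, 3, 4, 5, 8] hsel [1, 0, 1, 0, 1, 0] [3, 2, 3, 2, 3, 2] W10 rfl (by decide) rfl (cox_one 3 2)

theorem lf11 : (∀ p ∈ W11, p ∈ cert.LS) ∧ ev (fun k => el (jm [2, 3, 4, 5, 8] k)) W11 = 1 :=
  leaf_okJ cert el [2, 3, 4, 5, 8] hsel [2, 2] [4, 4] W11 rfl (by decide) rfl (evn_pair el el_sq 4)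

theorem lf12 : (∀ p ∈ W12, p ∈ cert.LS) ∧ ev (fun k => el (jm [2, 3, 4, 5, 8] k)) W12 = 1 :=
  leaf_okJ cert el [2, 3, 4, 5, 8] hsel [4, 2, 4, 2] [8, 4, 8, 4] W12 rfl (by decide) rfl (cox_one 8 4)

theorem lf13 : (∀ p ∈ W13, p ∈ cert.LS) ∧ ev (fun k => el (jm [2, 3, 4, 5, 8] k)) W13 = 1 :=
  leaf_okJ cert el [2, 3, 4, 5, 8] hsel [1, 2, 1, 2, 1, 2] [3, 4, 3, 4, 3, 4] W13 rfl (by decide) rfl (cox_one 3 4)

theorem lf14 : (∀ p ∈ W14, p ∈ cert.LS) ∧ ev (fun k => el (jm [2, 3, 4, 5, 8] k)) W14 = 1 :=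
  leaf_okJ cert el [2, 3, 4, 5, 8] hsel [0, 2, 0, 2] [2, 4, 2, 4] W14 rfl (by decide) rfl (cox_one 2 4)

theorem lf15 : (∀ p ∈ W15, p ∈ cert.LS) ∧ ev (fun k => el (jm [2, 3, 4, 5, 8] k)) W15 = 1 :=
  leaf_okJ cert el [2, 3, 4, 5, 8] hsel [3, 3] [5, 5] W15 rfl (by decide) rfl (evn_pair el el_sq 5)

theorem lf16 : (∀ p ∈ W16, p ∈ cert.LS) ∧ ev (fun k => el (jm [2, 3, 4, 5, 8] k)) W16 = 1 :=
  leaf_okJ cert el [2, 3, 4, 5, 8] hsel [1, 3, 1, 3] [3, 5, 3, 5] W16 rfl (by decide) rfl (cox_one 3 5)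

theorem lf17 : (∀ p ∈ W17, p ∈ cert.LS) ∧ ev (fun k => el (jm [2, 3, 4, 5, 8] k)) W17 = 1 :=
  leaf_okJ cert el [2, 3, 4, 5, 8] hsel [4, 3, 4, 3] [8, 5, 8, 5] W17 rfl (by decide) rfl (cox_one 8 5)

theorem lf18 : (∀ p ∈ W18, p ∈ cert.LS) ∧ ev (fun k => el (jm [2, 3, 4, 5, 8] k)) W18 = 1 :=
  leaf_okJ cert el [2, 3, 4, 5, 8] hsel [2, 3, 2, 3, 2, 3] [4, 5, 4, 5, 4, 5] W18 rfl (by decide) rfl (cox_one 4 5)

theorem lf19 : (∀ p ∈ W19, p ∈ cert.LS) ∧ ev (fun k => el (jm [2, 3, 4, 5, 8] k)) W19 = 1 :=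
  leaf_okJ cert el [2, 3, 4, 5, 8] hsel [0, 1, 0, 1, 0, 1] [2, 3, 2, 3, 2, 3] W19 rfl (by decide) rfl (cox_one 2 3)

theorem lf20 : (∀ p ∈ W20, p ∈ cert.LS) ∧ ev (fun k => el (jm [2, 3, 4, 5, 8] k)) W20 = 1 :=
  leaf_okJ cert el [2, 3, 4, 5, 8] hsel [2, 1, 2, 1, 2, 1] [4, 3, 4, 3, 4, 3] W20 rfl (by decide) rfl (cox_one 4 3)

theorem lf21 : (∀ p ∈ W21, p ∈ cert.LS) ∧ ev (fun k => el (jm [2, 3, 4, 5, 8] k)) W21 = 1 :=
  leaf_okJ cert el [2, 3, 4, 5, 8] hsel [0, 3, 0, 3] [2, 5, 2, 5] W21 rfl (by decide) rfl (cox_one 2 5)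

theorem lf22 : (∀ p ∈ W22, p ∈ cert.LS) ∧ ev (fun k => el (jm [2, 3, 4, 5, 8] k)) W22 = 1 :=
  leaf_okJ cert el [2, 3, 4, 5, 8] hsel [1, 4, 1, 4, 1, 4] [3, 8, 3, 8, 3, 8] W22 rfl (by decide) rfl (cox_one 3 8)

theorem lf23 : (∀ p ∈ W23, p ∈ cert.LS) ∧ ev (fun k => el (jm [2, 3, 4, 5, 8] k)) W23 = 1 :=
  leaf_okJ cert el [2, 3, 4, 5, 8] hsel [3, 2, 3, 2, 3, 2] [5, 4, 5, 4, 5, 4] W23 rfl (by decide) rfl (cox_one 5 4)

theorem lf24 : (∀ p ∈ W24, p ∈ cert.LS) ∧ ev (fun k => el (jm [2, 3, 4, 5, 8] k)) W24 = 1 :=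
  leaf_okJ cert el [2, 3, 4, 5, 8] hsel [2, 0, 2, 0] [4, 2, 4, 2] W24 rfl (by decide) rfl (cox_one 4 2)

theorem tree_ok : cert.tree.All (fun W => (∀ p ∈ W, p ∈ cert.LS) ∧ ev (fun k => el (jm [2, 3, 4, 5, 8] k)) W = 1) :=
  ⟨⟨⟨⟨⟨lf0, lf16⟩, ⟨lf8, lf24⟩⟩, ⟨⟨lf4, lf20⟩, lf12⟩⟩, ⟨⟨⟨lf2, lf18⟩, lf10⟩, ⟨⟨lf6, lf22⟩, lf14⟩⟩⟩, ⟨⟨⟨⟨lf1, lf17⟩, lf9⟩, ⟨⟨lf5, lf21⟩, lf13⟩⟩, ⟨⟨⟨lf3, lf19⟩, lf11⟩, ⟨⟨lf7, lf23⟩, lf15⟩⟩⟩⟩

theorem subs_ok : AllS (fun XZ : List Letter × List Letter => (∀ p ∈ XZ.1, p ∈ cert.LS) ∧ (∀ p ∈ XZ.2, p ∈ cert.LS) ∧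
    ev (fun k => el (jm [2, 3, 4, 5, 8] k)) XZ.1 * ev (fun k => el (jm [2, 3, 4, 5, 8] k)) XZ.2 ∈ KK el [2, 3, 4, 5]) cert.subs :=
  ⟨sub_ok cert _ (KK el [2, 3, 4, 5]) hsel [] [0] _ _ rfl rfl (by decide) (sub_memJ el [2, 3, 4, 5, 8] [2, 3, 4, 5] 0 (by decide)), sub_ok cert _ (KK el [2, 3, 4, 5]) hsel [] [1] _ _ rfl rfl (by decide) (sub_memJ el [2, 3, 4, 5, 8] [2, 3, 4, 5] 1 (by decide)), sub_ok cert _ (KK el [2, 3, 4, 5]) hsel [] [2] _ _ rfl rfl (by decide) (sub_memJ el [2, 3, 4, 5, 8] [2, 3, 4, 5] 2 (by decide)), sub_ok cert _ (KK el [2, 3, 4, 5]) hsel [] [3] _ _ rfl rfl (by decide) (sub_memJ el [2, 3, 4, 5, 8] [2, 3, 4, 5] 3 (by decide)), trivial⟩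

theorem hyp : Hyp cert (KK el [2, 3, 4, 5]) (fun k => el (jm [2, 3, 4, 5, 8] k)) := ⟨tree_ok, forall_of_allS subs_ok⟩

theorem hrow : ∀ a < cert.M, row cert a = true := by
  intro a ha
  have ha' : a < 16 := ha
  exact loop_spec row_ok0 a (by omega) (by omega)

theorem ub (hf : Finite (KK el [2, 3, 4, 5])) : Finite (KK el [2, 3, 4, 5, 8]) ∧ Nat.card (KK el [2, 3, 4, 5, 8]) ≤ 16 * Nat.card (KK el [2, 3, 4, 5]) :=
  ub_stepJ el [2, 3, 4, 5, 8] [2, 3, 4, 5] el_sq hyp al0 hrow rfl cnt hf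

end Cfsg.Agent.Lib.Helper19.OrdFi23.U4
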