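import Cfsg.Agent.Lib.Helper19.PresFi23
import Cfsg.Agent.Lib.Helper19.TC2P

/-! Generated file: certificates for the order of a presented group. -/

set_option autoImplicit false
set_option maxRecDepth 1000000

namespace Cfsg.Agent.Lib.Helper19.OrdFi23.U6

open Cfsg.Agent.Lib.Helper19.TCS (evn evn_rot evn_rev evn_pair AllS forall_of_allS lift_rels mk_eq_lift cox_swap shapeI prod_rep index_of_equiv orbit_ncard orbit_image ncard_interval fix_of_closure RC)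
open Cfsg.Agent.Lib.Helper19.TC2
open Cfsg.Spor Cfsg.Agent.Lib.Helper19.PresFi23

noncomputable section

def T0 : Tb := (.leaf 0x348e0e0)
def J0 : Tb := (.leaf 0x28000408)
def L0 : Letter := (0, T0, J0)
def T1 : Tb := (.leaf 0x16c5d58)
def J1 : Tb := (.leaf 0x380c0009)
def L1 : Letter := (1, T1, J1)
def T2 : Tb := (.leaf 0x26aa451)
def J2 : Tb := (.leaf 0x30100200)
def L2 : Letter := (2, T2, J2)
def tC : Tb := (.leaf 0x0)
def tJC : Tb := (.leaf 0x0)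
def tPP : Tb := (.leaf 0x814262100)
def W0 : List Letter := [L2, L2]
def W1 : List Letter := [L0, L2, L0, L2]
def W2 : List Letter := [L1, L1]
def W3 : List Letter := [L2, L1, L2, L1, L2, L1]
def W4 : List Letter := [L0, L0]
def W5 : List Letter := [L2, L0, L2, L0]
def W6 : List Letter := [L1, L0, L1, L0, L1, L0]
def wtree : Tr := (.node (.node (.node (.leaf W0) (.leaf W4)) (.node (.leaf W2) (.leaf W6))) (.node (.node (.leaf W1) (.leaf W5)) (.leaf W3)))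
def wsubs : List (List Letter × List Letter) := [([], [L0]), ([], [L1])]
def cert : Par := { w := 3, mw := 7, w5 := 8, fw := 7, mf := 127, jw := 9, mj := 511, k := 6, km := 63, C := tC, JC := tJC, PP := tPP, D := 1, M := 4, R := 7, S := 10, tree := wtree, subs := wsubs, LS := [L0, L1, L2] }

end

theorem al0 : al cert 0 = true := by decide +kernel

theorem cnt : cntA (al cert) 4 0 = 4 := by decide +kernel

theorem row_ok0 : loop (row cert) 0 4 = true := by decide +kernel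

theorem hsel : ∀ k < cert.LS.length, (sel cert.LS k).1 = k := by decide

theorem lf0 : (∀ p ∈ W0, p ∈ cert.LS) ∧ ev (fun k => el (jm [2, 3, 4] k)) W0 = 1 :=
  leaf_okJ cert el [2, 3, 4] hsel [2, 2] [4, 4] W0 rfl (by decide) rfl (evn_pair el el_sq 4)

theorem lf1 : (∀ p ∈ W1, p ∈ cert.LS) ∧ ev (fun k => el (jm [2, 3, 4] k)) W1 = 1 :=
  leaf_okJ cert el [2, 3, 4] hsel [0, 2, 0, 2] [2, 4, 2, 4] W1 rfl (by decide) rfl (cox_one 2 4)

theorem lf2 : (∀ p ∈ W2, p ∈ cert.LS) ∧ ev (fun k => el (jm [2, 3, 4] k)) W2 = 1 :=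
  leaf_okJ cert el [2, 3, 4] hsel [1, 1] [3, 3] W2 rfl (by decide) rfl (evn_pair el el_sq 3)

theorem lf3 : (∀ p ∈ W3, p ∈ cert.LS) ∧ ev (fun k => el (jm [2, 3, 4] k)) W3 = 1 :=
  leaf_okJ cert el [2, 3, 4] hsel [2, 1, 2, 1, 2, 1] [4, 3, 4, 3, 4, 3] W3 rfl (by decide) rfl (cox_one 4 3)

theorem lf4 : (∀ p ∈ W4, p ∈ cert.LS) ∧ ev (fun k => el (jm [2, 3, 4] k)) W4 = 1 :=
  leaf_okJ cert el [2, 3, 4] hsel [0, 0] [2, 2] W4 rfl (by decide) rfl (evn_pair el el_sq 2)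

theorem lf5 : (∀ p ∈ W5, p ∈ cert.LS) ∧ ev (fun k => el (jm [2, 3, 4] k)) W5 = 1 :=
  leaf_okJ cert el [2, 3, 4] hsel [2, 0, 2, 0] [4, 2, 4, 2] W5 rfl (by decide) rfl (cox_one 4 2)

theorem lf6 : (∀ p ∈ W6, p ∈ cert.LS) ∧ ev (fun k => el (jm [2, 3, 4] k)) W6 = 1 :=
  leaf_okJ cert el [2, 3, 4] hsel [1, 0, 1, 0, 1, 0] [3, 2, 3, 2, 3, 2] W6 rfl (by decide) rfl (cox_one 3 2)

theorem tree_ok : cert.tree.All (fun W => (∀ p ∈ W, p ∈ cert.LS) ∧ ev (fun k => el (jm [2, 3, 4] k)) W = 1) :=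
  ⟨⟨⟨lf0, lf4⟩, ⟨lf2, lf6⟩⟩, ⟨⟨lf1, lf5⟩, lf3⟩⟩

theorem subs_ok : AllS (fun XZ : List Letter × List Letter => (∀ p ∈ XZ.1, p ∈ cert.LS) ∧ (∀ p ∈ XZ.2, p ∈ cert.LS) ∧
    ev (fun k => el (jm [2, 3, 4] k)) XZ.1 * ev (fun k => el (jm [2, 3, 4] k)) XZ.2 ∈ KK el [2, 3]) cert.subs :=
  ⟨sub_ok cert _ (KK el [2, 3]) hsel [] [0] _ _ rfl rfl (by decide) (sub_memJ el [2, 3, 4] [2, 3] 0 (by decide)), sub_ok cert _ (KK el [2, 3]) hsel [] [1] _ _ rfl rfl (by decide) (sub_memJ el [2, 3, 4] [2, 3] 1 (by decide)), trivial⟩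

theorem hyp : Hyp cert (KK el [2, 3]) (fun k => el (jm [2, 3, 4] k)) := ⟨tree_ok, forall_of_allS subs_ok⟩

theorem hrow : ∀ a < cert.M, row cert a = true := by
  intro a ha
  have ha' : a < 4 := ha
  exact loop_spec row_ok0 a (by omega) (by omega)

theorem ub (hf : Finite (KK el [2, 3])) : Finite (KK el [2, 3, 4]) ∧ Nat.card (KK el [2, 3, 4]) ≤ 4 * Nat.card (KK el [2, 3]) :=
  ub_stepJ el [2, 3, 4] [2, 3] el_sq hyp al0 hrow rfl cnt hf

end Cfsg.Agent.Lib.Helper19.OrdFi23.U6
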